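import Groth.Prelude.Def_CohB1
import Groth.Agent.CompDerived.CohComp
import Groth.Agent.QCohBase.CohProps
import Groth.Agent.QCohBase.Qcqs
import Groth.Agent.Devissage.SerreClass

/-!
# A coherent module mapping to two coherent modules isomorphic on an open
-/

universe u

open CategoryTheory CategoryTheory.Limits AlgebraicGeometry

namespace Groth.Agent.CohCommon

theorem exists_common {X : Scheme.{u}} [IsNoetherian X] (U : X.Opens) (F₁ F₂ : X.Modules) (h₁ : Coh.IsCoh F₁)
    (h₂ : Coh.IsCoh F₂) (e : F₁.restrict U.ι ≅ F₂.restrict U.ι) :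
    ∃ (G : X.Modules) (p₁ : G ⟶ F₁) (p₂ : G ⟶ F₂), Coh.IsCoh G ∧
      IsIso ((Scheme.Modules.restrictFunctor U.ι).map p₁) ∧
      IsIso ((Scheme.Modules.restrictFunctor U.ι).map p₂) := by
  let r := Scheme.Modules.restrictFunctor U.ι
  have hadd : r.Additive := ⟨fun {M N f g} => Scheme.Modules.hom_ext _ _ fun W => rfl⟩
  have hmono : r.PreservesMonomorphisms :=
    ⟨fun {M N} f hf => Devissage.mono_of_app_injective _ fun W => QCohBase.app_injective_of_mono f (U.ι ''ᵁ W)⟩
  have hcol : PreservesColimitsOfSize.{0, 0} r := (Scheme.Modules.restrictAdjunction U.ι).leftAdjoint_preservesColimits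
  have := r.preservesHomology_of_preservesMonos_and_cokernels
  have hlim : PreservesFiniteLimits r := r.preservesFiniteLimits_of_preservesHomology
  let adj := Scheme.Modules.restrictAdjunction U.ι
  let ψ₁ : F₁ ⟶ (Scheme.Modules.pushforward U.ι).obj (r.obj F₂) := adj.homEquiv _ _ e.hom
  let ψ₂ : F₂ ⟶ (Scheme.Modules.pushforward U.ι).obj (r.obj F₂) := adj.homEquiv _ _ (𝟙 _)
  have i₁ : IsIso (r.map ψ₁) := by
    have : r.map ψ₁ ≫ adj.counit.app _ = e.hom := (adj.homEquiv_counit _ _ _).symm.trans ((adj.homEquiv _ _).symm_apply_apply _)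
    exact IsIso.of_isIso_fac_right this
  have i₂ : IsIso (r.map ψ₂) := by
    have : r.map ψ₂ ≫ adj.counit.app _ = 𝟙 _ := (adj.homEquiv_counit _ _ _).symm.trans ((adj.homEquiv _ _).symm_apply_apply _)
    exact IsIso.of_isIso_fac_right this
  have hq : ((Scheme.Modules.pushforward U.ι).obj (r.obj F₂)).IsQuasicoherent := by
    have := h₂.1
    exact QCohBase.isQuasicoherent_pushforward _ U.ι
  have hB : Coh.IsCoh (F₁ ⊞ F₂) := by
    let T : ShortComplex X.Modules := ShortComplex.mk (biprod.inl : F₁ ⟶ F₁ ⊞ F₂) biprod.snd (by simp)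
    exact CompDerived.isCoh_extension (T := T) (ShortComplex.Splitting.shortExact
      { r := biprod.fst, s := biprod.inr, f_r := by simp [T], s_g := by simp [T],
        id := by simp [T, biprod.total] }) h₁ h₂
  have e₀ := IsLimit.conePointUniqueUpToIso (kernelIsKernel (biprod.desc ψ₁ (-ψ₂)))
    (Abelian.PullbackToBiproductIsKernel.isLimitPullbackToBiproduct ψ₁ ψ₂)
  refine ⟨pullback ψ₁ ψ₂, pullback.fst ψ₁ ψ₂, pullback.snd ψ₁ ψ₂, CompDerived.isCoh_of_iso' e₀
    (QCohBase.isCoh_kernel _ hB hq), ?_, ?_⟩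
  · exact ((IsPullback.of_hasPullback ψ₁ ψ₂).map r).isIso_fst_of_isIso
  · exact ((IsPullback.of_hasPullback ψ₁ ψ₂).map r).isIso_snd_of_isIso

end Groth.Agent.CohCommon
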